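import Mathlib

/-!
# Points of finite schemes over an algebraically closed field (towards S14781)
-/

set_option autoImplicit false
set_option backward.isDefEq.respectTransparency false
set_option backward.isDefEq.respectTransparency.types false

universe u

open CategoryTheory CategoryTheory.Limits AlgebraicGeometry

namespace Groth.Agent.H5.QfRef

section GeomFibre

variable {Ω : Type u} [Field Ω] [IsAlgClosed Ω] {Z : Scheme.{u}}
  (c : Z ⟶ Spec (CommRingCat.of Ω)) [IsFinite c]

/-- sections of a finite scheme over an algebraically closed field form a finite set -/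
theorem finite_sections : Finite {s : Spec (CommRingCat.of Ω) ⟶ Z // s ≫ c = 𝟙 _} := by
  haveI : IsAffine Z := isAffine_of_isAffineHom c
  let R : CommRingCat.{u} := Γ(Z, ⊤)
  let ι : Z ≅ Spec R := Z.isoSpec
  let c' : Spec R ⟶ Spec (CommRingCat.of Ω) := ι.inv ≫ c
  let γ : CommRingCat.of Ω ⟶ R := Spec.preimage c'
  have hγ : Spec.map γ = c' := Spec.map_preimage c'
  haveI : IsFinite c' := inferInstanceAs (IsFinite (ι.inv ≫ c))
  have hfin : γ.hom.Finite := by
    rw [← IsFinite.SpecMap_iff, hγ]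
    infer_instance
  letI : Algebra Ω R := γ.hom.toAlgebra
  haveI : Module.Finite Ω R := hfin
  let Φ : {s : Spec (CommRingCat.of Ω) ⟶ Z // s ≫ c = 𝟙 _} → (R →ₐ[Ω] Ω) := fun s =>
    { toRingHom := (Spec.preimage (s.1 ≫ ι.hom)).hom
      commutes' := by
        intro ω
        have h1 : γ ≫ Spec.preimage (s.1 ≫ ι.hom) = 𝟙 _ := by
          apply Spec.map_injective
          rw [Spec.map_comp, Spec.map_preimage, hγ, Spec.map_id]
          change (s.1 ≫ ι.hom) ≫ ι.inv ≫ c = 𝟙 _
          rw [Category.assoc, Iso.hom_inv_id_assoc, s.2]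
        have h2 := congrArg (fun m => m.hom ω) h1
        exact h2 }
  refine Finite.of_injective Φ ?_
  intro s s' hss
  apply Subtype.ext
  have h1 : (Spec.preimage (s.1 ≫ ι.hom)).hom = (Spec.preimage (s'.1 ≫ ι.hom)).hom :=
    congrArg AlgHom.toRingHom hss
  have h2 : Spec.preimage (s.1 ≫ ι.hom) = Spec.preimage (s'.1 ≫ ι.hom) := CommRingCat.hom_ext h1
  have h3 := congrArg Spec.map h2
  rw [Spec.map_preimage, Spec.map_preimage] at h3
  exact (cancel_mono ι.hom).mp h3

/-- descent of geometric points of a finite scheme over an algebraically closed field -/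
theorem exists_section_of_point {F : Type u} [Field F]
    (e : Spec (CommRingCat.of F) ⟶ Spec (CommRingCat.of Ω)) (τ : Spec (CommRingCat.of F) ⟶ Z)
    (h : τ ≫ c = e) :
    ∃ s : Spec (CommRingCat.of Ω) ⟶ Z, s ≫ c = 𝟙 _ ∧ e ≫ s = τ := by
  haveI : IsAffine Z := isAffine_of_isAffineHom c
  let R : CommRingCat.{u} := Γ(Z, ⊤)
  let ι : Z ≅ Spec R := Z.isoSpec
  let c' : Spec R ⟶ Spec (CommRingCat.of Ω) := ι.inv ≫ c
  let γ : CommRingCat.of Ω ⟶ R := Spec.preimage c'
  have hγ : Spec.map γ = c' := Spec.map_preimage c'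
  haveI : IsFinite c' := inferInstanceAs (IsFinite (ι.inv ≫ c))
  have hfin : γ.hom.Finite := by
    rw [← IsFinite.SpecMap_iff, hγ]
    infer_instance
  let ε : CommRingCat.of Ω ⟶ CommRingCat.of F := Spec.preimage e
  have hε : Spec.map ε = e := Spec.map_preimage e
  let θ : R ⟶ CommRingCat.of F := Spec.preimage (τ ≫ ι.hom)
  have hθ : Spec.map θ = τ ≫ ι.hom := Spec.map_preimage _
  have hγθ : γ ≫ θ = ε := by
    apply Spec.map_injective
    rw [Spec.map_comp, hθ, hγ, hε]
    change (τ ≫ ι.hom) ≫ ι.inv ≫ c = e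
    rw [Category.assoc, Iso.hom_inv_id_assoc, h]
  letI : Algebra Ω R := γ.hom.toAlgebra
  haveI : Module.Finite Ω R := hfin
  letI : Algebra Ω F := ε.hom.toAlgebra
  let ρ : Ω →+* F := ε.hom
  have hρinj : Function.Injective ρ := ρ.injective
  have hθγ : ∀ ω : Ω, θ.hom (γ.hom ω) = ρ ω := fun ω =>
    congrArg (fun m => m.hom ω) hγθ
  let θA : R →ₐ[Ω] F := { toRingHom := θ.hom, commutes' := hθγ }
  have hrange : ∀ r : R, θ.hom r ∈ ρ.range := by
    intro r
    have hint : IsIntegral Ω r := Algebra.IsIntegral.isIntegral r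
    have hint' : IsIntegral Ω (θA r) := hint.map θA
    have hdeg := IsAlgClosed.degree_eq_one_of_irreducible Ω (minpoly.irreducible hint')
    exact minpoly.degree_eq_one_iff.mp hdeg
  let e₀ : Ω ≃+* ρ.range := RingEquiv.ofBijective ρ.rangeRestrict
    ⟨fun a b hab => hρinj (congrArg Subtype.val hab), ρ.rangeRestrict_surjective⟩
  let sR : R →+* Ω := e₀.symm.toRingHom.comp (θ.hom.codRestrict ρ.range hrange)
  have hsR : ∀ r : R, ρ (sR r) = θ.hom r := by
    intro r
    have h1 : e₀ (sR r) = θ.hom.codRestrict ρ.range hrange r := e₀.apply_symm_apply _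
    exact congrArg Subtype.val h1
  have hsRγ : ∀ ω : Ω, sR (γ.hom ω) = ω := by
    intro ω
    apply hρinj
    rw [hsR, hθγ]
  refine ⟨Spec.map (CommRingCat.ofHom sR) ≫ ι.inv, ?_, ?_⟩
  · change Spec.map (CommRingCat.ofHom sR) ≫ c' = 𝟙 _
    rw [← hγ, ← Spec.map_comp]
    have : γ ≫ CommRingCat.ofHom sR = 𝟙 _ := by
      ext ω
      exact hsRγ ω
    rw [this, Spec.map_id]
  · rw [← hε, ← Category.assoc, ← Spec.map_comp]
    have : CommRingCat.ofHom sR ≫ ε = θ := by
      ext r
      exact hsR r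
    rw [this, hθ, Category.assoc, Iso.hom_inv_id, Category.comp_id]

end GeomFibre

end Groth.Agent.H5.QfRef
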