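import Mathlib
import Groth.Agent.Lib.Helper5.QfRef.QfA

/-!
# Finite covers splitting the geometric fibre of a finite morphism (towards S14781)
-/

set_option autoImplicit false
set_option backward.isDefEq.respectTransparency false
set_option backward.isDefEq.respectTransparency.types false

universe u

open CategoryTheory CategoryTheory.Limits AlgebraicGeometry

namespace Groth.Agent.H5.QfRef

/-- morphisms out of the spectrum of a field are quasi-compact -/
instance quasiCompact_of_field {K : Type u} [Field K] {Y : Scheme.{u}}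
    (f : Spec (CommRingCat.of K) ⟶ Y) : QuasiCompact f := by
  constructor
  intro U _ _
  haveI : Finite ↥(Spec (CommRingCat.of K)) := inferInstanceAs (Finite (PrimeSpectrum K))
  exact (Set.toFinite _).isCompact

section Core

variable {Y Xb : Scheme.{u}} (π : Xb ⟶ Y) [IsFinite π] (η : Y)

/-- algebraic closure of the residue field -/
abbrev Om : Type u := AlgebraicClosure (Y.residueField η)

/-- the geometric point over `η` -/
noncomputable def geomPt : Spec (CommRingCat.of (Om η)) ⟶ Y :=
  Spec.map (CommRingCat.ofHom (algebraMap (Y.residueField η) (Om η))) ≫ Y.fromSpecResidueField η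

lemma geomPt_apply (t : ↥(Spec (CommRingCat.of (Om η)))) : geomPt η t = η := by
  rw [geomPt, Scheme.Hom.comp_apply]
  exact Scheme.fromSpecResidueField_apply η _

/-- geometric points of `Xb` over the geometric point -/
def GP : Type u := {σ : Spec (CommRingCat.of (Om η)) ⟶ Xb // σ ≫ π = geomPt η}

instance : Finite (GP π η) := by
  let c : pullback π (geomPt η) ⟶ Spec (CommRingCat.of (Om η)) := pullback.snd π (geomPt η)
  haveI : IsFinite c := inferInstance
  haveI := finite_sections c
  let Φ : GP π η → {s : Spec (CommRingCat.of (Om η)) ⟶ pullback π (geomPt η) // s ≫ c = 𝟙 _} :=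
    fun σ => ⟨pullback.lift σ.1 (𝟙 _) (by rw [σ.2, Category.id_comp]), pullback.lift_snd _ _ _⟩
  refine Finite.of_injective Φ ?_
  intro σ σ' h
  apply Subtype.ext
  have h1 : (Φ σ).1 ≫ pullback.fst π (geomPt η) = (Φ σ').1 ≫ pullback.fst π (geomPt η) := by rw [h]
  have e1 : (Φ σ).1 ≫ pullback.fst π (geomPt η) = σ.1 := pullback.lift_fst _ _ _
  have e2 : (Φ σ').1 ≫ pullback.fst π (geomPt η) = σ'.1 := pullback.lift_fst _ _ _
  rw [e1, e2] at h1
  exact h1

/-- a finite `Y`-scheme over which finitely many geometric points of `Xb` become sections -/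
theorem exists_sections (F : Finset (GP π η)) :
    ∃ (Y' : Scheme.{u}) (q : Y' ⟶ Y) (ξ : Spec (CommRingCat.of (Om η)) ⟶ Y'),
      IsFinite q ∧ ξ ≫ q = geomPt η ∧ IsDominant ξ ∧
        ∀ σ ∈ F, ∃ s : Y' ⟶ Xb, s ≫ π = q ∧ ξ ≫ s = σ.1 := by
  classical
  induction F using Finset.induction_on with
  | empty =>
    refine ⟨(geomPt η).image, (geomPt η).imageι, (geomPt η).toImage, inferInstance,
      (geomPt η).toImage_imageι, inferInstance, ?_⟩
    intro σ hσ
    simp at hσ
  | insert σ₀ F hσ₀ ih =>
    obtain ⟨Y', q, ξ, hq, hξq, hξ, hs⟩ := ih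
    haveI := hq
    have hcond : ξ ≫ q = σ₀.1 ≫ π := by rw [hξq, σ₀.2]
    let m : Spec (CommRingCat.of (Om η)) ⟶ pullback q π := pullback.lift ξ σ₀.1 hcond
    have hm1 : m ≫ pullback.fst q π = ξ := pullback.lift_fst _ _ _
    have hm2 : m ≫ pullback.snd q π = σ₀.1 := pullback.lift_snd _ _ _
    let r : m.image ⟶ Y' := m.imageι ≫ pullback.fst q π
    haveI : IsFinite (pullback.fst q π) := inferInstance
    haveI : IsFinite r := inferInstanceAs (IsFinite (m.imageι ≫ pullback.fst q π))
    have hξr : m.toImage ≫ r = ξ := by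
      change m.toImage ≫ m.imageι ≫ pullback.fst q π = ξ
      rw [← Category.assoc, m.toImage_imageι, hm1]
    refine ⟨m.image, r ≫ q, m.toImage, inferInstance, ?_, inferInstance, ?_⟩
    · rw [← Category.assoc, hξr, hξq]
    · intro σ hσ
      rcases Finset.mem_insert.mp hσ with rfl | hσF
      · refine ⟨m.imageι ≫ pullback.snd q π, ?_, ?_⟩
        · change (m.imageι ≫ pullback.snd q π) ≫ π = (m.imageι ≫ pullback.fst q π) ≫ q
          rw [Category.assoc, Category.assoc, pullback.condition]
        · rw [← Category.assoc, m.toImage_imageι, hm2]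
      · obtain ⟨s, hs1, hs2⟩ := hs σ hσF
        refine ⟨r ≫ s, ?_, ?_⟩
        · rw [Category.assoc, hs1]
        · rw [← Category.assoc, hξr, hs2]

end Core

end Groth.Agent.H5.QfRef
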