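import Mathlib
import Groth.Prelude.Def_W4c2submetdescSubtr
import Groth.Agent.Lib.Helper5.QfRef.QfB

/-!
# The covering argument (towards S14781)
-/

set_option autoImplicit false
set_option backward.isDefEq.respectTransparency false
set_option backward.isDefEq.respectTransparency.types false

universe u

open CategoryTheory CategoryTheory.Limits AlgebraicGeometry

namespace Groth.Agent.H5.QfRef

section Core

variable {Y Xb X₁ : Scheme.{u}} (π : Xb ⟶ Y) [IsFinite π] (j : X₁ ⟶ Xb) [IsOpenImmersion j]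

/-- the closed point of the spectrum of a field -/
noncomputable abbrev pt (K : Type u) [Field K] : ↥(Spec (CommRingCat.of K)) :=
  IsLocalRing.closedPoint K

lemma eq_pt {K : Type u} [Field K] (t : ↥(Spec (CommRingCat.of K))) : t = pt K :=
  Subsingleton.elim (α := PrimeSpectrum K) _ _

theorem exists_finite_cover_point (hf : Subtr.UnivSSubtrusive (j ≫ π)) (η : Y) :
    ∃ (Y' : Scheme.{u}) (q : Y' ⟶ Y), IsFinite q ∧ η ∈ Set.range q ∧
      ∃ (A : Type u) (_ : Finite A) (s : A → (Y' ⟶ Xb)), (∀ α, s α ≫ π = q) ∧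
        ∀ y' : Y', ∃ α, s α y' ∈ Set.range j := by
  classical
  haveI : Fintype (GP π η) := Fintype.ofFinite _
  obtain ⟨Y', q, ξ, hq, hξq, hξ, hs⟩ := exists_sections π η (Finset.univ : Finset (GP π η))
  haveI := hq
  haveI := hξ
  have hs' : ∀ σ : GP π η, ∃ s : Y' ⟶ Xb, s ≫ π = q ∧ ξ ≫ s = σ.1 := fun σ =>
    hs σ (Finset.mem_univ σ)
  choose s hs1 hs2 using hs'
  let y₀ : Y' := ξ (pt (Om η))
  have hy₀ : q y₀ = η := by
    change q (ξ (pt (Om η))) = η
    rw [← Scheme.Hom.comp_apply, hξq, geomPt_apply]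
  refine ⟨Y', q, hq, ⟨y₀, hy₀⟩, GP π η, inferInstance, s, hs1, ?_⟩
  intro y'
  -- `y₀` specializes to `y'`
  have hspec : y₀ ⤳ y' := by
    rw [specializes_iff_mem_closure]
    have hr : Set.range ξ = {y₀} := by
      ext z
      simp only [Set.mem_range, Set.mem_singleton_iff]
      constructor
      · rintro ⟨t, rfl⟩
        rw [eq_pt t]
      · rintro rfl
        exact ⟨_, rfl⟩
    have hd : DenseRange ξ := ξ.denseRange
    rw [← hr]
    exact hd y'
  -- lift the specialization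
  let a : pullback (j ≫ π) q ⟶ X₁ := pullback.fst (j ≫ π) q
  let b : pullback (j ≫ π) q ⟶ Y' := pullback.snd (j ≫ π) q
  have hab : a ≫ j ≫ π = b ≫ q := pullback.condition
  have hb : Subtr.IsSSubtrusive b := hf a q b (IsPullback.of_hasPullback (j ≫ π) q).flip
  obtain ⟨x₂, x₁, hx, hx₂, hx₁⟩ := hb hspec
  -- a geometric point over `x₁` compatible with `ξ`
  let t₁ := geomPt x₁
  have hpt : ξ (pt (Om η)) = (t₁ ≫ b) (pt (Om x₁)) := by
    rw [Scheme.Hom.comp_apply, geomPt_apply, hx₁]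
  obtain ⟨w, -, -⟩ := Scheme.Pullback.exists_preimage_pullback (f := ξ) (g := t₁ ≫ b) _ _ hpt
  let t₂ := geomPt w
  let e : Spec (CommRingCat.of (Om w)) ⟶ Spec (CommRingCat.of (Om η)) :=
    t₂ ≫ pullback.fst ξ (t₁ ≫ b)
  let t : Spec (CommRingCat.of (Om w)) ⟶ pullback (j ≫ π) q := t₂ ≫ pullback.snd ξ (t₁ ≫ b) ≫ t₁
  have het : e ≫ ξ = t ≫ b := by
    change (t₂ ≫ pullback.fst ξ (t₁ ≫ b)) ≫ ξ = (t₂ ≫ pullback.snd ξ (t₁ ≫ b) ≫ t₁) ≫ b
    rw [Category.assoc, pullback.condition]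
    simp only [Category.assoc]
  have htpt : t (pt (Om w)) = x₁ := by
    change (t₂ ≫ pullback.snd ξ (t₁ ≫ b) ≫ t₁) (pt (Om w)) = x₁
    rw [← Category.assoc, Scheme.Hom.comp_apply, geomPt_apply]
  -- descend the geometric point of `Xb`
  let τ : Spec (CommRingCat.of (Om w)) ⟶ Xb := t ≫ a ≫ j
  have hτ : τ ≫ π = e ≫ geomPt η := by
    have h1 : τ ≫ π = t ≫ (a ≫ j ≫ π) := by
      simp only [τ, Category.assoc]
    have h2 : t ≫ (b ≫ q) = (t ≫ b) ≫ q := (Category.assoc _ _ _).symm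
    have h3 : (e ≫ ξ) ≫ q = e ≫ (ξ ≫ q) := Category.assoc _ _ _
    rw [h1, hab, h2, ← het, h3, hξq]
  let c : pullback π (geomPt η) ⟶ Spec (CommRingCat.of (Om η)) := pullback.snd π (geomPt η)
  haveI : IsFinite c := inferInstance
  let τ' : Spec (CommRingCat.of (Om w)) ⟶ pullback π (geomPt η) := pullback.lift τ e hτ
  have hτ' : τ' ≫ c = e := pullback.lift_snd _ _ _
  obtain ⟨sec, hsec1, hsec2⟩ := exists_section_of_point c e τ' hτ'
  let σ : GP π η := ⟨sec ≫ pullback.fst π (geomPt η), by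
    rw [Category.assoc, pullback.condition, ← Category.assoc]
    change (sec ≫ c) ≫ geomPt η = geomPt η
    rw [hsec1, Category.id_comp]⟩
  have heσ : e ≫ σ.1 = τ := by
    change e ≫ sec ≫ pullback.fst π (geomPt η) = τ
    rw [← Category.assoc, hsec2]
    exact pullback.lift_fst _ _ _
  have hkey : t ≫ a ≫ j = t ≫ b ≫ s σ := by
    have h2 : t ≫ b ≫ s σ = (t ≫ b) ≫ s σ := (Category.assoc _ _ _).symm
    have h3 : (e ≫ ξ) ≫ s σ = e ≫ (ξ ≫ s σ) := Category.assoc _ _ _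
    rw [h2, ← het, h3, hs2 σ, heσ]
  -- the equalizer
  let X'ov : Over Y := Over.mk (b ≫ q)
  let Xbov : Over Y := Over.mk π
  let u : X'ov ⟶ Xbov := Over.homMk (a ≫ j) (by
    change (a ≫ j) ≫ π = b ≫ q
    rw [Category.assoc, hab])
  let v : X'ov ⟶ Xbov := Over.homMk (b ≫ s σ) (by
    change (b ≫ s σ) ≫ π = b ≫ q
    rw [Category.assoc, hs1])
  haveI : IsSeparated Xbov.hom := inferInstanceAs (IsSeparated π)
  let ιE : (equalizer u v).left ⟶ pullback (j ≫ π) q := (equalizer.ι u v).left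
  haveI : IsClosedImmersion ιE := isClosedImmersion_equalizer_ι_left u v
  have hιE : ιE ≫ a ≫ j = ιE ≫ b ≫ s σ := congrArg (fun m => m.left) (equalizer.condition u v)
  let Tov : Over Y := Over.mk (t ≫ b ≫ q)
  let tt : Tov ⟶ X'ov := Over.homMk t rfl
  have htt : tt ≫ u = tt ≫ v := by
    apply Over.OverMorphism.ext
    exact hkey
  let lft : Tov ⟶ equalizer u v := equalizer.lift tt htt
  have hlft : lft.left ≫ ιE = t := congrArg (fun m => m.left) (equalizer.lift_ι tt htt)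
  have hx₁E : x₁ ∈ Set.range ιE := by
    refine ⟨lft.left (pt (Om w)), ?_⟩
    have h4 : (lft.left ≫ ιE) (pt (Om w)) = t (pt (Om w)) := by
      rw [hlft]
      rfl
    rw [Scheme.Hom.comp_apply] at h4
    rw [h4, htpt]
  have hx₂E : x₂ ∈ Set.range ιE := by
    have hcl : closure {x₁} ⊆ Set.range ιE :=
      closure_minimal (Set.singleton_subset_iff.mpr hx₁E) ιE.isClosedEmbedding.isClosed_range
    exact hcl (specializes_iff_mem_closure.mp hx)
  obtain ⟨e₂, he₂⟩ := hx₂E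
  refine ⟨σ, a x₂, ?_⟩
  have h1 : (ιE ≫ a ≫ j) e₂ = (ιE ≫ b ≫ s σ) e₂ := by rw [hιE]
  rw [Scheme.Hom.comp_apply, Scheme.Hom.comp_apply, Scheme.Hom.comp_apply, Scheme.Hom.comp_apply,
    he₂, hx₂] at h1
  exact h1

end Core

end Groth.Agent.H5.QfRef
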