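import Mathlib
import Groth.Prelude.Def_W4c2submetdescSubtr
import Groth.Agent.Lib.Helper5.QfRef.QfC
import Groth.Agent.Lib.Helper6.FinSigma

/-!
# Assembling the refinement over a noetherian base (towards S14781)
-/

set_option autoImplicit false
set_option backward.isDefEq.respectTransparency false
set_option backward.isDefEq.respectTransparency.types false

universe u

open CategoryTheory CategoryTheory.Limits AlgebraicGeometry

namespace Groth.Agent.H5.QfRef

/-- finitely many open immersions into a noetherian scheme that are jointly surjective assemble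
to a quasi-compact quasi-separated surjective local isomorphism -/
theorem assemble {Y' : Scheme.{u}} [IsNoetherian Y'] {B : Type u} [Finite B]
    (V : B → Scheme.{u}) (u : ∀ b, V b ⟶ Y') [∀ b, IsOpenImmersion (u b)]
    (hsurj : ∀ y' : Y', ∃ b, y' ∈ Set.range (u b)) :
    Surjective (Sigma.desc u) ∧ QuasiCompact (Sigma.desc u) ∧ QuasiSeparated (Sigma.desc u) ∧
      ∀ x : ↥(∐ V), ∃ U : (∐ V).Opens, x ∈ U ∧ IsOpenImmersion (U.ι ≫ Sigma.desc u) := by
  haveI hV : ∀ b, IsLocallyNoetherian (V b) := fun b => isLocallyNoetherian_of_isOpenImmersion (u b)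
  haveI hVc : ∀ b, CompactSpace (V b) := fun b => QuasiCompact.compactSpace_of_compactSpace (u b)
  haveI : Finite (sigmaOpenCover V).I₀ := ‹Finite B›
  haveI : ∀ i, CompactSpace ((sigmaOpenCover V).X i) := hVc
  haveI : CompactSpace ↥(∐ V) := (sigmaOpenCover V).compactSpace
  haveI : IsLocallyNoetherian (∐ V) :=
    (isLocallyNoetherian_iff_openCover (sigmaOpenCover V)).mpr hV
  refine ⟨⟨?_⟩, inferInstance, inferInstance, ?_⟩
  · intro y'
    obtain ⟨b, v, hv⟩ := hsurj y'
    refine ⟨Sigma.ι V b v, ?_⟩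
    rw [← Scheme.Hom.comp_apply, Sigma.ι_desc]
    exact hv
  · intro x
    obtain ⟨b, v, hv⟩ := (sigmaOpenCover V).exists_eq x
    refine ⟨(Sigma.ι V b).opensRange, ⟨v, hv⟩, ?_⟩
    have h1 : (Sigma.ι V b).isoOpensRange.hom ≫ (Sigma.ι V b).opensRange.ι ≫ Sigma.desc u = u b := by
      rw [← Category.assoc, Scheme.Hom.isoOpensRange_hom_ι, Sigma.ι_desc]
    have h2 : IsOpenImmersion
        ((Sigma.ι V b).isoOpensRange.hom ≫ (Sigma.ι V b).opensRange.ι ≫ Sigma.desc u) := by
      rw [h1]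
      infer_instance
    exact (MorphismProperty.cancel_left_of_respectsIso @IsOpenImmersion
      (Sigma.ι V b).isoOpensRange.hom _).mp h2

section N

variable {X Y Xb X₁ : Scheme.{u}} [IsNoetherian Y] (f : X ⟶ Y) (π : Xb ⟶ Y) [IsFinite π]
  (j : X₁ ⟶ Xb) [IsOpenImmersion j] (g : X₁ ⟶ X)

theorem thmN (hsq : j ≫ π = g ≫ f) (hf : Subtr.UnivSSubtrusive (j ≫ π)) :
    ∃ (X' Y' : Scheme.{u}) (h : X' ⟶ X) (p : X' ⟶ Y') (q : Y' ⟶ Y), h ≫ f = p ≫ q ∧
      Surjective p ∧ QuasiCompact p ∧ QuasiSeparated p ∧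
      (∀ x : X', ∃ U : X'.Opens, x ∈ U ∧ IsOpenImmersion (U.ι ≫ p)) ∧
      IsFinite q ∧ Surjective q ∧ LocallyOfFinitePresentation q := by
  classical
  let E : Type u := {Z : Set Y // Z ∈ irreducibleComponents Y}
  haveI : Finite E := (finite_irreducibleComponents_of_isNoetherian (X := Y)).to_subtype
  have hgen : ∀ Z : E, ∃ η : Y, IsGenericPoint η Z.1 := fun Z =>
    QuasiSober.sober Z.2.1 (isClosed_of_mem_irreducibleComponents _ Z.2)
  choose η hη using hgen
  choose Y' q hq hηq A hA s hs1 hs2 using fun Z : E => exists_finite_cover_point π j hf (η Z)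
  haveI := hq
  haveI := hA
  let qq : (∐ Y') ⟶ Y := Sigma.desc q
  haveI hqq : IsFinite qq := Groth.Agent.H6.FinSigma.isFinite_sigmaDesc Y' q hq
  have hqqs : Surjective qq := by
    constructor
    intro y
    let Z : E := ⟨irreducibleComponent y, irreducibleComponent_mem_irreducibleComponents y⟩
    have hy : y ∈ closure {η Z} := by
      rw [(hη Z).def]
      exact mem_irreducibleComponent
    have hcl : IsClosed (Set.range qq) := qq.isClosedMap.isClosed_range
    have hmem : η Z ∈ Set.range qq := by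
      obtain ⟨z, hz⟩ := hηq Z
      refine ⟨Sigma.ι Y' Z z, ?_⟩
      rw [← Scheme.Hom.comp_apply, Sigma.ι_desc]
      exact hz
    exact closure_minimal (Set.singleton_subset_iff.mpr hmem) hcl hy
  haveI : IsLocallyNoetherian (∐ Y') := LocallyOfFiniteType.isLocallyNoetherian qq
  haveI : CompactSpace ↥(∐ Y') := QuasiCompact.compactSpace_of_compactSpace qq
  haveI : IsNoetherian (∐ Y') := {}
  let B : Type u := Σ Z : E, A Z
  let W : ∀ b : B, (Y' b.1).Opens := fun b => (s b.1 b.2) ⁻¹ᵁ j.opensRange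
  let V : B → Scheme.{u} := fun b => (W b).toScheme
  let u : ∀ b, V b ⟶ ∐ Y' := fun b => (W b).ι ≫ Sigma.ι Y' b.1
  haveI : ∀ b, IsOpenImmersion (u b) := fun b =>
    inferInstanceAs (IsOpenImmersion ((W b).ι ≫ Sigma.ι Y' b.1))
  have hrange : ∀ b, Set.range ((W b).ι ≫ s b.1 b.2) ⊆ Set.range j := by
    rintro b _ ⟨x, rfl⟩
    exact x.2
  let lft : ∀ b, V b ⟶ X₁ := fun b => IsOpenImmersion.lift j ((W b).ι ≫ s b.1 b.2) (hrange b)
  have hlft : ∀ b, lft b ≫ j = (W b).ι ≫ s b.1 b.2 := fun b => IsOpenImmersion.lift_fac _ _ _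
  have hsurj : ∀ y' : ↥(∐ Y'), ∃ b, y' ∈ Set.range (u b) := by
    intro y'
    obtain ⟨Z, z, hz⟩ := (sigmaOpenCover Y').exists_eq y'
    obtain ⟨α, hα⟩ := hs2 Z z
    refine ⟨⟨Z, α⟩, ⟨z, hα⟩, ?_⟩
    exact hz
  obtain ⟨h1, h2, h3, h4⟩ := assemble V u hsurj
  refine ⟨∐ V, ∐ Y', Sigma.desc (fun b => lft b ≫ g), Sigma.desc u, qq, ?_, h1, h2, h3, h4, hqq,
    hqqs, inferInstance⟩
  apply Sigma.hom_ext
  intro b
  rw [← Category.assoc, Sigma.ι_desc, ← Category.assoc, Sigma.ι_desc, Category.assoc, ← hsq,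
    ← Category.assoc, hlft, Category.assoc, hs1]
  change _ = ((W b).ι ≫ Sigma.ι Y' b.1) ≫ Sigma.desc q
  rw [Category.assoc, Sigma.ι_desc]

end N

end Groth.Agent.H5.QfRef
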