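import Mathlib
import Groth.Prelude.Def_W4c2submetdescSubtr
import Groth.Agent.Lib.Helper5.QfRef.QfD
import Groth.Agent.Lib.Helper5.NApprox.ZmtB
import Groth.Agent.Lib.Helper5.Ultra.UpD
import Groth.Agent.Lib.Helper1.Subtr1

/-!
# S14781 over a noetherian base
-/

set_option autoImplicit false
set_option backward.isDefEq.respectTransparency false
set_option backward.isDefEq.respectTransparency.types false

universe u

open CategoryTheory CategoryTheory.Limits AlgebraicGeometry

namespace Groth.Agent.H5.QfRef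

open Groth.Agent.Lib.Helper1.Subtr1

theorem main_noeth {X Y : Scheme.{u}} [IsNoetherian Y] (f : X ⟶ Y)
    [LocallyOfFinitePresentation f] [QuasiCompact f] [QuasiSeparated f] [LocallyQuasiFinite f]
    (hf : Subtr.UnivSSubtrusive f) :
    ∃ (X' Y' : Scheme.{u}) (h : X' ⟶ X) (p : X' ⟶ Y') (q : Y' ⟶ Y), h ≫ f = p ≫ q ∧
      Surjective p ∧ QuasiCompact p ∧ QuasiSeparated p ∧
      (∀ x : X', ∃ U : X'.Opens, x ∈ U ∧ IsOpenImmersion (U.ι ≫ p)) ∧
      IsFinite q ∧ Surjective q ∧ LocallyOfFinitePresentation q := by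
  haveI : CompactSpace X := QuasiCompact.compactSpace_of_compactSpace f
  let 𝒰 := X.affineCover.finiteSubcover
  haveI : ∀ i, IsAffine (𝒰.X i) := fun i => by
    rw [X.affineCover.finiteSubcover_X]
    infer_instance
  let c : (∐ 𝒰.X) ⟶ X := Sigma.desc 𝒰.f
  haveI : Flat c := IsZariskiLocalAtSource.sigmaDesc (P := @Flat) fun i => inferInstance
  haveI : LocallyOfFinitePresentation c :=
    IsZariskiLocalAtSource.sigmaDesc (P := @LocallyOfFinitePresentation) fun i => inferInstance
  haveI : LocallyQuasiFinite c :=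
    IsZariskiLocalAtSource.sigmaDesc (P := @LocallyQuasiFinite) fun i => inferInstance
  haveI : Surjective c := by
    constructor
    intro x
    obtain ⟨i, y, hy⟩ := 𝒰.exists_eq x
    refine ⟨Sigma.ι 𝒰.X i y, ?_⟩
    rw [← Scheme.Hom.comp_apply, Sigma.ι_desc]
    exact hy
  have hc : Subtr.UnivSSubtrusive c := Groth.Agent.H5.Ultra.univSSubtrusive_of_flat_of_surjective c
  have hcf : Subtr.UnivSSubtrusive (c ≫ f) :=
    univSSubtrusive_iff_valLift.mpr
      ((univSSubtrusive_iff_valLift.mp hc).comp (univSSubtrusive_iff_valLift.mp hf))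
  haveI : IsAffine (∐ 𝒰.X) := inferInstance
  haveI : IsSeparated (c ≫ f) := inferInstance
  haveI : QuasiCompact (c ≫ f) := inferInstance
  haveI : LocallyQuasiFinite (c ≫ f) := inferInstance
  haveI : LocallyOfFinitePresentation (c ≫ f) := inferInstance
  obtain ⟨T, j, π, hj, hjqc, hπ, hπfp, hjπ⟩ :=
    Groth.Agent.H5.NApprox.exists_openImmersion_finite_fp (c ≫ f)
  haveI := hj
  haveI := hπ
  exact thmN f π j c hjπ (by rw [hjπ]; exact hcf)

end Groth.Agent.H5.QfRef
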