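import Mathlib
import Groth.Prelude.Def_W4c2submetdescSubtr
import Groth.Agent.Lib.Helper5.QfRef.QfE
import Groth.Agent.Lib.Helper5.Ultra.UpE
import Groth.Agent.Lib.Helper5.Lim.DescendQuasiFinite
import Groth.Agent.Lib.Helper5.Lim.FGSub2

/-!
# S14781: the affine case by noetherian approximation, and the main statement
-/

set_option autoImplicit false
set_option backward.isDefEq.respectTransparency false
set_option backward.isDefEq.respectTransparency.types false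

universe u

open CategoryTheory CategoryTheory.Limits AlgebraicGeometry MorphismProperty

namespace Groth.Agent.H5.QfRef

open Groth.Agent.H5.Lim Groth.Agent.H5.Ultra

theorem affineSystemDescent_inf {P Q Φ Ψ : MorphismProperty Scheme.{u}}
    [P.IsStableUnderBaseChange] [Q.IsStableUnderBaseChange]
    (HP : AffineSystemDescent P Φ) (HQ : AffineSystemDescent Q Ψ) :
    AffineSystemDescent (P ⊓ Q) (Φ ⊓ Ψ) := by
  intro J _ _ E cE hcE _ j₁ Z₀ h₀ hΦ hP
  obtain ⟨j, φ, h1⟩ := HP E cE hcE j₁ h₀ hΦ.1 hP.1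
  obtain ⟨j', φ', h2⟩ := HQ E cE hcE j₁ h₀ hΦ.2 hP.2
  let k₀ := IsCofiltered.min j j'
  let a₀ : k₀ ⟶ j := IsCofiltered.minToLeft j j'
  let b₀ : k₀ ⟶ j' := IsCofiltered.minToRight j j'
  let k := IsCofiltered.eq (a₀ ≫ φ) (b₀ ≫ φ')
  let e : k ⟶ k₀ := IsCofiltered.eqHom (a₀ ≫ φ) (b₀ ≫ φ')
  have he : e ≫ a₀ ≫ φ = e ≫ b₀ ≫ φ' := IsCofiltered.eq_condition _ _
  refine ⟨k, e ≫ a₀ ≫ φ, ⟨?_, ?_⟩⟩
  · have e1 : E.map (e ≫ a₀ ≫ φ) = E.map (e ≫ a₀) ≫ E.map φ := by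
      rw [← E.map_comp, Category.assoc]
    rw [bc_congr (P := P) h₀ e1]
    exact bc_of_comp h₀ (E.map φ) (E.map (e ≫ a₀)) h1
  · have e1 : E.map (e ≫ a₀ ≫ φ) = E.map (e ≫ b₀) ≫ E.map φ' := by
      rw [← E.map_comp, Category.assoc, he]
    rw [bc_congr (P := Q) h₀ e1]
    exact bc_of_comp h₀ (E.map φ') (E.map (e ≫ b₀)) h2

theorem affineSystemDescent_lqf_univSSubtrusive :
    AffineSystemDescent.{u} (@LocallyQuasiFinite ⊓ Subtr.UnivSSubtrusive)
      ((@LocallyOfFiniteType ⊓ (@QuasiCompact ⊓ @QuasiSeparated)) ⊓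
        (@LocallyOfFinitePresentation ⊓ @QuasiCompact ⊓ @QuasiSeparated ⊓ ⊤)) :=
  affineSystemDescent_inf affineSystemDescent_locallyQuasiFinite
    affineSystemDescent_univSSubtrusive

/-- the conclusion of S14781 -/
def Concl {X Y : Scheme.{u}} (f : X ⟶ Y) : Prop :=
  ∃ (X' Y' : Scheme.{u}) (h : X' ⟶ X) (p : X' ⟶ Y') (q : Y' ⟶ Y), h ≫ f = p ≫ q ∧
    Surjective p ∧ QuasiCompact p ∧ QuasiSeparated p ∧
    (∀ x : X', ∃ U : X'.Opens, x ∈ U ∧ IsOpenImmersion (U.ι ≫ p)) ∧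
    IsFinite q ∧ Surjective q ∧ LocallyOfFinitePresentation q

/-- the conclusion is stable under base change -/
theorem Concl.baseChange {X Y X₀ Y₀ : Scheme.{u}} {f : X ⟶ Y} {f₀ : X₀ ⟶ Y₀} {g : X ⟶ X₀}
    {β : Y ⟶ Y₀} (sq : IsPullback g f f₀ β) (H : Concl f₀) : Concl f := by
  obtain ⟨X'₀, Y'₀, h₀, p₀, q₀, e₀, hp1, hp2, hp3, hp4, hq1, hq2, hq3⟩ := H
  let q : pullback q₀ β ⟶ Y := pullback.snd q₀ β
  let b' : pullback q₀ β ⟶ Y'₀ := pullback.fst q₀ β
  let p : pullback p₀ b' ⟶ pullback q₀ β := pullback.snd p₀ b'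
  let a' : pullback p₀ b' ⟶ X'₀ := pullback.fst p₀ b'
  have c1 : a' ≫ p₀ = p ≫ b' := pullback.condition
  have c2 : b' ≫ q₀ = q ≫ β := pullback.condition
  have hcomp : (a' ≫ h₀) ≫ f₀ = (p ≫ q) ≫ β := by
    rw [Category.assoc, e₀, ← Category.assoc, c1, Category.assoc, c2, Category.assoc]
  refine ⟨pullback p₀ b', pullback q₀ β, sq.lift (a' ≫ h₀) (p ≫ q) hcomp, p, q,
    sq.lift_snd _ _ _, MorphismProperty.pullback_snd (P := @Surjective) _ _ hp1,
    MorphismProperty.pullback_snd (P := @QuasiCompact) _ _ hp2,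
    MorphismProperty.pullback_snd (P := @QuasiSeparated) _ _ hp3, ?_,
    MorphismProperty.pullback_snd (P := @IsFinite) _ _ hq1,
    MorphismProperty.pullback_snd (P := @Surjective) _ _ hq2,
    MorphismProperty.pullback_snd (P := @LocallyOfFinitePresentation) _ _ hq3⟩
  intro x
  obtain ⟨U₀, hxU₀, hU₀⟩ := hp4 (a' x)
  refine ⟨a' ⁻¹ᵁ U₀, hxU₀, ?_⟩
  have sqL : IsPullback (a' ⁻¹ᵁ U₀).ι (a' ∣_ U₀) a' U₀.ι := (isPullback_morphismRestrict a' U₀).flip
  have sqR : IsPullback p a' b' p₀ := (IsPullback.of_hasPullback p₀ b').flip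
  have sqB := (sqL.paste_horiz sqR).flip
  exact MorphismProperty.of_isPullback (P := @IsOpenImmersion) sqB hU₀

theorem main_spec (A : Type u) [CommRing A] {X : Scheme.{u}} (f : X ⟶ Spec (CommRingCat.of A))
    [LocallyOfFinitePresentation f] [QuasiCompact f] [QuasiSeparated f] [LocallyQuasiFinite f]
    (hf : Subtr.UnivSSubtrusive f) : Concl f := by
  obtain ⟨A₀, hA₀, X₀, f₀, g, hP, h1, h2, h3, sq⟩ := exists_model_fgz A
    affineSystemDescent_lqf_univSSubtrusive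
    (fun g h1 h2 h3 => ⟨⟨inferInstance, h2, h3⟩, ⟨⟨⟨h1, h2⟩, h3⟩, trivial⟩⟩) f
    ⟨inferInstance, hf⟩
  haveI : Algebra.FiniteType ℤ ↥A₀ := (Subalgebra.fg_iff_finiteType A₀).mp hA₀
  haveI : IsNoetherianRing ↥A₀ := Algebra.FiniteType.isNoetherianRing ℤ ↥A₀
  haveI : IsNoetherian (Spec (CommRingCat.of ↥A₀)) := inferInstance
  haveI := h1
  haveI := h2
  haveI := h3
  haveI : LocallyQuasiFinite f₀ := hP.1
  exact Concl.baseChange sq (main_noeth f₀ hP.2)

theorem main_S14781 {X Y : Scheme.{u}} (f : X ⟶ Y)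
    (hY : IsAffine Y ∨ IsNoetherian Y) [LocallyOfFinitePresentation f] [QuasiCompact f]
    [QuasiSeparated f] [LocallyQuasiFinite f] (hf : Subtr.UnivSSubtrusive f) : Concl f := by
  rcases hY with hY | hY
  · haveI := hY
    let f' : X ⟶ Spec (CommRingCat.of ↑Γ(Y, ⊤)) := f ≫ Y.isoSpec.hom
    haveI : LocallyOfFinitePresentation f' :=
      inferInstanceAs (LocallyOfFinitePresentation (f ≫ Y.isoSpec.hom))
    haveI : QuasiCompact f' := inferInstanceAs (QuasiCompact (f ≫ Y.isoSpec.hom))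
    haveI : QuasiSeparated f' := inferInstanceAs (QuasiSeparated (f ≫ Y.isoSpec.hom))
    haveI : LocallyQuasiFinite f' := inferInstanceAs (LocallyQuasiFinite (f ≫ Y.isoSpec.hom))
    have hf' : Subtr.UnivSSubtrusive f' :=
      (MorphismProperty.cancel_right_of_respectsIso Subtr.UnivSSubtrusive f Y.isoSpec.hom).mpr hf
    obtain ⟨X', Y', h, p, q, e, hp1, hp2, hp3, hp4, hq1, hq2, hq3⟩ := main_spec _ f' hf'
    haveI := hq1
    haveI := hq2
    haveI := hq3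
    refine ⟨X', Y', h, p, q ≫ Y.isoSpec.inv, ?_, hp1, hp2, hp3, hp4, inferInstance, inferInstance,
      inferInstance⟩
    have e' : h ≫ f ≫ Y.isoSpec.hom = p ≫ q := e
    rw [← Category.assoc, ← e', Category.assoc, Category.assoc, Iso.hom_inv_id, Category.comp_id]
  · haveI := hY
    exact main_noeth f hf

end Groth.Agent.H5.QfRef
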