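import Mathlib
import Groth.Prelude.Def_W4c2submetdescSubtr
import Groth.Agent.Lib.Helper5.QfRef.QfF
import Groth.Agent.S14770

/-!
# S13732: qfh coverings of a noetherian scheme are refined by finite surjective + open cover
-/

set_option autoImplicit false
set_option backward.isDefEq.respectTransparency false
set_option backward.isDefEq.respectTransparency.types false

universe u

open CategoryTheory CategoryTheory.Limits AlgebraicGeometry MorphismProperty

namespace Groth.Agent.H5.QfRef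

/-- from the conclusion of S14781 with a coproduct source over a compact base: finitely many opens -/
theorem exists_finite_opens_of_concl {Y : Scheme.{u}} [CompactSpace Y] {I : Type u}
    (X : I → Scheme.{u}) (φ : ∀ i, X i ⟶ Y) (H : Concl (Sigma.desc φ)) :
    ∃ (Y' : Scheme.{u}) (p : Y' ⟶ Y) (n : ℕ) (V : Fin n → Y'.Opens), IsFinite p ∧ Surjective p ∧
      LocallyOfFinitePresentation p ∧ ⨆ i, V i = ⊤ ∧
      ∀ i, ∃ (j : I) (h : (↑(V i) : Scheme.{u}) ⟶ X j), h ≫ φ j = (V i).ι ≫ p := by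
  classical
  obtain ⟨X', Y', h, p, q, e, hp1, hp2, hp3, hp4, hq1, hq2, hq3⟩ := H
  haveI := hq1
  haveI := hp2
  haveI : CompactSpace Y' := QuasiCompact.compactSpace_of_compactSpace q
  haveI : CompactSpace X' := QuasiCompact.compactSpace_of_compactSpace p
  have hj : ∀ x : X', ∃ j : I, h x ∈ Set.range (Sigma.ι X j) := fun x => by
    obtain ⟨j, z, hz⟩ := (sigmaOpenCover X).exists_eq (h x)
    exact ⟨j, z, hz⟩
  choose j hj using hj
  choose U hxU hU using hp4
  let U' : X' → X'.Opens := fun x => U x ⊓ h ⁻¹ᵁ (Sigma.ι X (j x)).opensRange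
  have hxU' : ∀ x, x ∈ U' x := fun x => ⟨hxU x, hj x⟩
  have hU' : ∀ x, IsOpenImmersion ((U' x).ι ≫ p) := fun x => by
    haveI := hU x
    have e1 : (U' x).ι ≫ p = X'.homOfLE (inf_le_left : U' x ≤ U x) ≫ (U x).ι ≫ p := by
      rw [← Category.assoc, Scheme.homOfLE_ι]
    rw [e1]
    infer_instance
  obtain ⟨t, ht⟩ := isCompact_univ.elim_finite_subcover (fun x => ((U' x : X'.Opens) : Set X'))
    (fun x => (U' x).2) (fun x _ => Set.mem_iUnion.mpr ⟨x, hxU' x⟩)
  let ε : ↥t ≃ Fin t.card := t.equivFin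
  let x₀ : Fin t.card → X' := fun i => (ε.symm i).1
  haveI : ∀ i, IsOpenImmersion ((U' (x₀ i)).ι ≫ p) := fun i => hU' _
  let V : Fin t.card → Y'.Opens := fun i => ((U' (x₀ i)).ι ≫ p).opensRange
  refine ⟨Y', q, t.card, V, hq1, hq2, hq3, ?_, ?_⟩
  · rw [eq_top_iff]
    intro y' _
    obtain ⟨x, rfl⟩ := p.surjective y'
    have hx := ht (Set.mem_univ x)
    simp only [Set.mem_iUnion] at hx
    obtain ⟨x₁, hx₁t, hx₁⟩ := hx
    refine TopologicalSpace.Opens.mem_iSup.mpr ⟨ε ⟨x₁, hx₁t⟩, ?_⟩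
    have hxe : x₀ (ε ⟨x₁, hx₁t⟩) = x₁ := by
      change (ε.symm (ε ⟨x₁, hx₁t⟩)).1 = x₁
      rw [Equiv.symm_apply_apply]
    change p x ∈ Set.range ((U' (x₀ (ε ⟨x₁, hx₁t⟩))).ι ≫ p)
    rw [hxe]
    exact ⟨⟨x, hx₁⟩, rfl⟩
  · intro i
    let W := U' (x₀ i)
    let m : (↑W : Scheme.{u}) ⟶ Y' := W.ι ≫ p
    have hrange : Set.range (W.ι ≫ h) ⊆ Set.range (Sigma.ι X (j (x₀ i))) := by
      rintro _ ⟨w, rfl⟩
      exact w.2.2
    let l : (↑W : Scheme.{u}) ⟶ X (j (x₀ i)) :=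
      IsOpenImmersion.lift (Sigma.ι X (j (x₀ i))) (W.ι ≫ h) hrange
    have hl : l ≫ Sigma.ι X (j (x₀ i)) = W.ι ≫ h := IsOpenImmersion.lift_fac _ _ _
    have hiso : m.isoOpensRange.hom ≫ (V i).ι = W.ι ≫ p := Scheme.Hom.isoOpensRange_hom_ι m
    refine ⟨j (x₀ i), m.isoOpensRange.inv ≫ l, ?_⟩
    have e2 : l ≫ φ (j (x₀ i)) = W.ι ≫ p ≫ q := by
      have : φ (j (x₀ i)) = Sigma.ι X (j (x₀ i)) ≫ Sigma.desc φ := (Sigma.ι_desc _ _).symm
      rw [this, ← Category.assoc, hl, Category.assoc, e]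
    rw [Category.assoc, e2, ← Category.assoc W.ι, ← hiso, Category.assoc, Iso.inv_hom_id_assoc]

theorem main_S13732 {Y : Scheme.{u}} [IsNoetherian Y] (E : PreZeroHypercover.{u} Y)
    [Finite E.I₀] [∀ j, LocallyOfFiniteType (E.f j)] [∀ j, QuasiCompact (E.f j)]
    [∀ j, LocallyQuasiFinite (E.f j)]
    (hE : SGA1.UnivSubmersive (Sigma.desc E.f)) :
    ∃ (Y' : Scheme.{u}) (p : Y' ⟶ Y) (n : ℕ) (V : Fin n → Y'.Opens), IsFinite p ∧ Surjective p ∧
      ⨆ i, V i = ⊤ ∧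
      ∀ i, ∃ (j : E.I₀) (h : (↑(V i) : Scheme.{u}) ⟶ E.X j), h ≫ E.f j = (V i).ι ≫ p := by
  let f : (∐ E.X) ⟶ Y := Sigma.desc E.f
  haveI : LocallyOfFiniteType f :=
    IsZariskiLocalAtSource.sigmaDesc (P := @LocallyOfFiniteType) fun i => inferInstance
  haveI : LocallyQuasiFinite f :=
    IsZariskiLocalAtSource.sigmaDesc (P := @LocallyQuasiFinite) fun i => inferInstance
  haveI : IsLocallyNoetherian (∐ E.X) := LocallyOfFiniteType.isLocallyNoetherian f
  haveI : Finite (sigmaOpenCover E.X).I₀ := ‹Finite E.I₀›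
  haveI : ∀ i, CompactSpace ((sigmaOpenCover E.X).X i) := fun i =>
    QuasiCompact.compactSpace_of_compactSpace (E.f i)
  haveI : CompactSpace ↥(∐ E.X) := (sigmaOpenCover E.X).compactSpace
  haveI : QuasiCompact f := inferInstance
  haveI : QuasiSeparated f := inferInstance
  haveI : LocallyOfFinitePresentation f := inferInstance
  have hf : Subtr.UnivSSubtrusive f := (Groth.Agent.S14770.result f).mp hE
  obtain ⟨Y', p, n, V, h1, h2, -, h4, h5⟩ :=
    exists_finite_opens_of_concl E.X E.f (main_noeth f hf)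
  exact ⟨Y', p, n, V, h1, h2, h4, h5⟩

end Groth.Agent.H5.QfRef
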